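import Groth.Agent.Lib.SerreDual8.Smooth
import Groth.Agent.Lib.SymSq10.Coh
import Groth.Agent.Lib.CurveR1_10.Dim
import Groth.Agent.Lib.TwistBC9.H0Push
import Groth.Agent.Lib.MumVan22.ChiTwist

/-!
# Riemann-Roch on smooth proper surfaces over a field
-/

set_option autoImplicit false
set_option linter.style.haveILetI false
set_option linter.unusedSectionVars false
set_option maxHeartbeats 1000000
set_option backward.isDefEq.respectTransparency false
set_option backward.isDefEq.respectTransparency.types false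

universe u

open CategoryTheory CategoryTheory.Limits AlgebraicGeometry TopologicalSpace

noncomputable section

namespace Groth.Agent.SerreDual8

open Groth.Agent.HypSq10 (chi hh rep rep_inv cls_rep)
open Groth.Agent.SymSq10 (sdot)

noncomputable local instance instLawSD8 (Y : Scheme.{u}) : PicGrp.Law Y := M2.law Y

variable {k : Type u} [Field k] {X : Scheme.{u}} [X.Over (Spec (CommRingCat.of k))]
  [IsProper (X ↘ Spec (CommRingCat.of k))]

/-- Duality for classes. -/
theorem hh_duality (n : ℕ) [SmoothOfRelativeDimension n (X ↘ Spec (CommRingCat.of k))]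
    {W : X.Modules} (hW : ExtPow.IsExtPow n (Omega.sheaf (X ↘ Spec (CommRingCat.of k))) W)
    (hWi : PicF.IsInvertible W) (c : PicLoc.PicSet X) {p : ℕ} (hp : p ≤ n) :
    hh k p c = hh k (n - p) (PicGrp.cls W hWi * c⁻¹) := by
  obtain ⟨M, hM, ⟨a⟩⟩ := M2.exists_inverse (rep_inv c)
  have hc : PicGrp.cls M hM = c⁻¹ := by
    have h := (PicGrp.cls_mul_cls_eq_one_iff (rep_inv c) hM).2 ⟨a⟩
    rw [cls_rep] at h
    exact eq_inv_of_mul_eq_one_right h
  have h := finrank_duality (k := k) n hW (rep_inv c) (M2.tensorComm _ _ ≪≫ a) hp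
  rw [HypSq10.finrank_eq_hh (M2.isInvertible_tensor hWi hM), ← AlgEquiv22.cls_tensor hWi hM, hc] at h
  exact h

/-- The Euler characteristic of a closed subscheme. -/
theorem euler_idealMod {C : Scheme.{u}} [C.Over (Spec (CommRingCat.of k))] (i : C ⟶ X) [IsClosedImmersion i]
    (hi : i ≫ (X ↘ Spec (CommRingCat.of k)) = C ↘ Spec (CommRingCat.of k))
    (hI : PicF.IsInvertible (ClSub.idealMod i.ker)) :
    Curv2.euler k X (ClSub.idealMod i.ker) =
      Curv2.euler k X (Coh.structureModule X) - Curv2.euler k C (Coh.structureModule C) := by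
  haveI : IsNoetherian X := CohFound.isNoetherian_of_isProper (X ↘ Spec (CommRingCat.of k))
  let S := i.ker.subscheme
  letI : S.Over (Spec (CommRingCat.of k)) := ⟨i.ker.subschemeι ≫ (X ↘ Spec (CommRingCat.of k))⟩
  have hC : i.toImage ≫ (S ↘ Spec (CommRingCat.of k)) = C ↘ Spec (CommRingCat.of k) := by
    show i.toImage ≫ i.ker.subschemeι ≫ _ = _
    rw [← Category.assoc, Scheme.Hom.toImage_imageι i, hi]
  obtain ⟨e⟩ := TwistBC9.nonempty_push_structureModule i.toImage fun V =>
    (ConcreteCategory.isIso_iff_bijective _).1 inferInstance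
  have h := ChiTwist22.euler_add_coh (k := k) (M2.shortExact_idealMod i.ker) (Snapper.isCoh_of_isInvertible hI)
    (M1.isCoh_structureModule X) (CurveCoh17.isCoh_quotMod i.ker)
  have h1 : Curv2.euler k X (ClSub.quotMod i.ker) = Curv2.euler k S (Coh.structureModule S) :=
    AmpleFin18.euler_push i.ker.subschemeι rfl _ (M1.isQCoh_structureModule _)
  have h2 : Curv2.euler k S (Coh.structureModule S) = Curv2.euler k C (Coh.structureModule C) :=
    (CurveCoh17.euler_iso e).symm.trans (AmpleFin18.euler_push i.toImage hC _ (M1.isQCoh_structureModule _))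
  simp only at h
  linarith

variable (hd : topologicalKrullDim X ≤ ((2 : ℕ) : WithBot ℕ∞))
include hd

/-- Riemann-Roch for classes, from duality. -/
theorem rr_of_duality (w : PicLoc.PicSet X)
    (hD : ∀ (c : PicLoc.PicSet X) (p : ℕ), p ≤ 2 → hh k p c = hh k (2 - p) (w * c⁻¹)) (c : PicLoc.PicSet X) :
    2 * chi k c = sdot k c c - sdot k c w + 2 * chi k (1 : PicLoc.PicSet X) := by
  have hS : ∀ d : PicLoc.PicSet X, chi k (w * d⁻¹) = chi k d := fun d => by
    rw [SymSq10.chi_eq_hh2 hd, SymSq10.chi_eq_hh2 hd, hD d 0 (by omega), hD d 1 (by omega), hD d 2 le_rfl]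
    simp only [show 2 - 0 = 2 from rfl, show 2 - 1 = 1 from rfl, show 2 - 2 = 0 from rfl]
    ring
  have h1 : sdot k c (w * c⁻¹) = 2 * chi k (1 : PicLoc.PicSet X) - 2 * chi k c := by
    have h0 := hS 1
    rw [inv_one, mul_one] at h0
    have h2 : c * (w * c⁻¹) = w := mul_comm c _ ▸ inv_mul_cancel_right _ c
    rw [sdot, h2, hS c, h0]
    ring
  have h3 := SymSq10.sdot_mul (k := k) hd w c⁻¹ c
  have h4 := SymSq10.sdot_mul (k := k) hd c⁻¹ c c
  rw [inv_mul_cancel, SymSq10.sdot_one_left] at h4
  rw [SymSq10.sdot_comm] at h1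
  rw [SymSq10.sdot_comm (k := k) c w]
  linarith

/-- Riemann-Roch for classes. -/
theorem rr [SmoothOfRelativeDimension 2 (X ↘ Spec (CommRingCat.of k))]
    {W : X.Modules} (hW : ExtPow.IsExtPow 2 (Omega.sheaf (X ↘ Spec (CommRingCat.of k))) W)
    (hWi : PicF.IsInvertible W) (c : PicLoc.PicSet X) :
    2 * chi k c = sdot k c c - sdot k c (PicGrp.cls W hWi) + 2 * chi k (1 : PicLoc.PicSet X) :=
  rr_of_duality hd (PicGrp.cls W hWi) (fun c _ hp => hh_duality 2 hW hWi c hp) c

/-- Riemann-Roch for modules. -/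
theorem two_mul_euler [SmoothOfRelativeDimension 2 (X ↘ Spec (CommRingCat.of k))]
    {W : X.Modules} (hW : ExtPow.IsExtPow 2 (Omega.sheaf (X ↘ Spec (CommRingCat.of k))) W)
    (L : X.Modules) (hL : PicF.IsInvertible L) :
    2 * Curv2.euler k X L =
      FGA.intNum k X 2 ![L, L] (Coh.structureModule X) - FGA.intNum k X 2 ![L, W] (Coh.structureModule X) +
        2 * Curv2.euler k X (Coh.structureModule X) := by
  have hWi := isInvertible_canonical (k := k) 2 hW
  rw [SymSq10.intNum_eq' hd hL hL, SymSq10.intNum_eq' hd hL hWi, HypSq10.euler_eq_chi hL, ← HypSq10.chi_one]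
  exact rr hd hW hWi _

end Groth.Agent.SerreDual8

end
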