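import Groth.Agent.Lib.SerreP9.Base
import Groth.Agent.Lib.BC8.SmoothShriek
import Groth.Agent.Lib.BC8.TopDual
import Groth.Agent.Lib.DBC9.Good
import Groth.Agent.Lib.ProjDual12.RangeDuality
import Groth.Agent.Lib.ProjDual12.CMDuality
import Groth.Agent.Lib.ProjDual12.Trans
import Groth.Agent.Lib.CurveCartier25.RelDim
import Groth.Agent.Lib.SymSq10.Canon
import Groth.Agent.Lib.DMV.Perfect

/-!
# Serre duality on smooth proper schemes over a field
-/

set_option autoImplicit false
set_option linter.style.haveILetI false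
set_option linter.unusedSectionVars false
set_option backward.isDefEq.respectTransparency false
set_option backward.isDefEq.respectTransparency.types false
set_option maxHeartbeats 1600000

universe u

open CategoryTheory CategoryTheory.Limits AlgebraicGeometry TopologicalSpace

attribute [local instance] HasDerivedCategory.standard

noncomputable section

namespace Groth.Agent.SerreDual8

variable {k : Type u} [Field k] {X : Scheme.{u}} [X.Over (Spec (CommRingCat.of k))]

/-- A smooth scheme, pure of dimension `n`, is smooth of relative dimension `n`. -/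
theorem smoothRelDim (n : ℕ) [Smooth (X ↘ Spec (CommRingCat.of k))]
    (heq : ∀ Z : Set ↥X, Z ∈ irreducibleComponents ↥X → topologicalKrullDim ↥Z = (n : WithBot ℕ∞)) :
    SmoothOfRelativeDimension n (X ↘ Spec (CommRingCat.of k)) := by
  let f := X ↘ Spec (CommRingCat.of k)
  refine ⟨fun x => ?_⟩
  obtain ⟨U, hU, V, hV, hxV, e, hs⟩ := Smooth.exists_isStandardSmooth f x
  refine ⟨U, hU, V, hV, hxV, e, ?_⟩
  haveI : Subsingleton (Spec (CommRingCat.of k)) := inferInstanceAs (Subsingleton (PrimeSpectrum k))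
  have hUtop : U = ⊤ := Opens.ext (Set.eq_univ_of_forall fun y => by
    rw [Subsingleton.elim (α := Spec (CommRingCat.of k)) y (f x)]; exact e hxV)
  subst hUtop
  let ε : k ≃+* Γ(Spec (CommRingCat.of k), ⊤) :=
    (Scheme.ΓSpecIso (CommRingCat.of k)).symm.commRingCatIsoToRingEquiv
  letI : Algebra k Γ(X, V) := ((f.appLE ⊤ V e).hom.comp ε.toRingHom).toAlgebra
  haveI : Algebra.IsStandardSmooth k Γ(X, V) :=
    RingHom.isStandardSmooth_respectsIso.2 _ ε hs
  obtain ⟨ι, σ, _, _, ⟨P⟩⟩ := (inferInstance : Algebra.IsStandardSmooth k Γ(X, V)).out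
  haveI hn : Algebra.IsStandardSmoothOfRelativeDimension P.dimension k Γ(X, V) :=
    ⟨ι, σ, inferInstance, inferInstance, P, rfl⟩
  haveI : JacobsonSpace X := LocallyOfFiniteType.jacobsonSpace f
  obtain ⟨z, hzV, hz⟩ := nonempty_inter_closedPoints (X := X) ⟨x, hxV⟩ V.2.isLocallyClosed
  let M := hV.primeIdealOf ⟨z, hzV⟩
  haveI hM : M.asIdeal.IsMaximal := by
    rw [← PrimeSpectrum.isClosed_singleton_iff_isMaximal]
    have h1 : (hV.fromSpec ⁻¹' {z} : Set (PrimeSpectrum Γ(X, V))) = {M} := by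
      ext y
      show hV.fromSpec y = z ↔ y = M
      constructor
      · intro h
        exact hV.fromSpec.isOpenEmbedding.injective (h.trans (hV.fromSpec_primeIdealOf ⟨z, hzV⟩).symm)
      · rintro rfl
        exact hV.fromSpec_primeIdealOf ⟨z, hzV⟩
    have h2 : IsClosed (hV.fromSpec ⁻¹' {z} : Set (PrimeSpectrum Γ(X, V))) := hz.preimage hV.fromSpec.continuous
    rwa [h1] at h2
  have h1 := CurveCartier25.ringKrullDim_atPrime_of_standardSmooth k Γ(X, V) P.dimension M.asIdeal
  letI := X.presheaf.algebra_section_stalk (U := V) ⟨z, hzV⟩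
  haveI := hV.isLocalization_stalk ⟨z, hzV⟩
  have hb : ringKrullDim (X.presheaf.stalk z) = (P.dimension : WithBot ℕ∞) := by
    rw [← h1]
    exact (ringKrullDim_eq_of_ringEquiv (IsLocalization.algEquiv M.asIdeal.primeCompl
      (Localization.AtPrime M.asIdeal) (X.presheaf.stalk z)).toRingEquiv).symm
  have h0 := ProjDual12.ringKrullDim_stalk_add_sdim_of_pure f heq hb
  rw [(VarDim.sdim_eq_zero_iff_isClosed f z).2 hz, add_zero] at h0
  have h2 : P.dimension = n := by exact_mod_cast h0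
  rw [h2] at hn
  have h3 : RingHom.IsStandardSmoothOfRelativeDimension n ((f.appLE ⊤ V e).hom.comp ε.toRingHom) :=
    (RingHom.isStandardSmoothOfRelativeDimension_algebraMap n).2 hn
  have h4 := (RingHom.isStandardSmoothOfRelativeDimension_respectsIso (n := n)).2 _ ε.symm h3
  convert h4 using 1
  ext a
  exact congrArg (f.appLE ⊤ V e).hom (ε.apply_symm_apply a).symm

/-- The canonical module is invertible. -/
theorem isInvertible_canonical [IsSeparated (X ↘ Spec (CommRingCat.of k))] (n : ℕ)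
    [SmoothOfRelativeDimension n (X ↘ Spec (CommRingCat.of k))]
    {W : X.Modules} (hW : ExtPow.IsExtPow n (Omega.sheaf (X ↘ Spec (CommRingCat.of k))) W) : PicF.IsInvertible W :=
  Wedge2.isInvertible_top (SymSq10.isFinLocFreeOfRank_omega n (X ↘ Spec (CommRingCat.of k))) hW

variable [IsProper (X ↘ Spec (CommRingCat.of k))]

/-- Serre duality for finite locally free modules, numerically. -/
theorem finrank_duality_locFree (n : ℕ) [SmoothOfRelativeDimension n (X ↘ Spec (CommRingCat.of k))]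
    {W : X.Modules} (hW : ExtPow.IsExtPow n (Omega.sheaf (X ↘ Spec (CommRingCat.of k))) W)
    {L : X.Modules} (hL : FlatMod.IsFinLocFree L) {p : ℕ} (hp : p ≤ n) :
    Module.finrank k (Coh.HH X L p) = Module.finrank k (Coh.HH X ((CohMop.ihom L).obj W) (n - p)) := by
  let f := X ↘ Spec (CommRingCat.of k)
  haveI : IsNoetherian X := CohFound.isNoetherian_of_isProper f
  haveI := DBC9.hasRpush f
  let hq := BC8.rpushPreserves f
  haveI : DCoh.HasShriek f hq := BC8.isLeftAdjoint_rpushQ f hq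
  let OY := BC8.oQ (Spec (CommRingCat.of k))
  let hOY : OY.obj ≅ DCoh.inD (Spec (CommRingCat.of k)) (Coh.structureModule (Spec (CommRingCat.of k))) :=
    Iso.refl _
  obtain ⟨w⟩ := BC8.nonempty_smooth_shriek f n f (𝟙 X) (Category.id_comp _) (DCoh.shriekAdj f hq) W hW
  let ω := DCoh.dualizingCx f hq OY
  let w' : ω ≅ (DCoh.inD X W)⟦(n : ℤ)⟧ := ((DBC9.lPId X).app ω).symm ≪≫ w
  let P : DCoh.D X := (DCoh.inD X L)⟦(p : ℤ)⟧
  have hP : DCoh.IsQCohD P := DMV.isQCohD_shift _ (BC8.isQCohD_inD' (M2.isQCoh_of_isFinLocFree hL)) _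
  let s : SerreP9.one X ≅ DCoh.inD X (Coh.structureModule X) := (SerreP9.oneIso X).symm
  let D := LinearEquiv.ofBijective _ (SerreP9.bijective_tFun hOY P hP)
  let e₁ : Coh.HH X L p ≃ₗ[k] (SerreP9.one X ⟶ P) :=
    BC8.hhHom k X L p ≪≫ₗ Linear.homCongr k s.symm (Iso.refl P)
  let B : DCoh.D X := (DCoh.inD X W)⟦((n - p : ℕ) : ℤ)⟧
  let w'' : ω ≅ B⟦(p : ℤ)⟧ := w' ≪≫
    (shiftFunctorAdd' (DCoh.D X) ((n - p : ℕ) : ℤ) (p : ℤ) (n : ℤ) (by omega)).app _
  let e₂ : (DCoh.inD X L ⟶ B) ≃ₗ[k] (P ⟶ ω) :=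
    LinearEquiv.ofBijective ((shiftFunctor (DCoh.D X) (p : ℤ)).mapLinearMap k (X := DCoh.inD X L) (Y := B))
      (Functor.FullyFaithful.map_bijective (Functor.FullyFaithful.ofFullyFaithful (shiftFunctor (DCoh.D X) (p : ℤ))) (DCoh.inD X L) B) ≪≫ₗ
      Linear.homCongr k (Iso.refl P) w''.symm
  obtain ⟨e₃⟩ := ProjDual12.nonempty_ext_linearEquiv_HH (k := k) hL W (n - p)
  let e₄ := (Abelian.Ext.homLinearEquiv (R := k) (X := L) (Y := W) (n := n - p)).symm
  calc Module.finrank k (Coh.HH X L p) = Module.finrank k (SerreP9.one X ⟶ P) := e₁.finrank_eq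
    _ = Module.finrank k (Module.Dual k (SerreP9.one X ⟶ P)) := Subspace.dual_finrank_eq.symm
    _ = Module.finrank k (P ⟶ ω) := D.finrank_eq.symm
    _ = Module.finrank k (DCoh.inD X L ⟶ B) := e₂.finrank_eq.symm
    _ = Module.finrank k (Coh.HH X ((CohMop.ihom L).obj W) (n - p)) :=
      (e₄ ≪≫ₗ e₃).finrank_eq

/-- Serre duality for invertible modules, numerically. -/
theorem finrank_duality (n : ℕ) [SmoothOfRelativeDimension n (X ↘ Spec (CommRingCat.of k))]
    {W : X.Modules} (hW : ExtPow.IsExtPow n (Omega.sheaf (X ↘ Spec (CommRingCat.of k))) W)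
    {L L' : X.Modules} (hL : PicF.IsInvertible L) (e : CohB1.tensorMod L' L ≅ Coh.structureModule X)
    {p : ℕ} (hp : p ≤ n) :
    Module.finrank k (Coh.HH X L p) = Module.finrank k (Coh.HH X (CohB1.tensorMod W L') (n - p)) := by
  obtain ⟨j⟩ := ProjDual12.nonempty_ihom_invertible_iso hL e W
  rw [finrank_duality_locFree n hW (M2.isFinLocFree_of_isInvertible hL) hp,
    (CurveCoh17.hequiv k j (n - p)).finrank_eq]

end Groth.Agent.SerreDual8

end
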